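import Groth.Agent.Lib.HSheafCrit4.Main
import Groth.Agent.Lib.ABU25.PhSheaf
import Groth.Agent.Lib.BlowUp.Exists
import Groth.Agent.Lib.BlowUpProper.Basic
import Groth.Agent.S8982
import Groth.Prelude.Def_HTop3

/-!
# Coverings for which a presheaf is universally a sheaf

For a Zariski sheaf satisfying the sheaf condition for flat proper coverings and for almost blow up
squares with centre cut out by two sections, sieves absorbing a centre and the morphisms along which
it becomes an effective Cartier divisor are covering.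
-/

set_option autoImplicit false
set_option backward.isDefEq.respectTransparency false
universe w u

open CategoryTheory CategoryTheory.Limits AlgebraicGeometry Opposite

noncomputable section

namespace GrothLib.HSquare4

variable {S : Scheme.{u}} (F : (Over S)ᵒᵖ ⥤ Type w)

/-- The sieve is covering for the finest topology making `F` a sheaf, after any map from an `S`-scheme. -/
def K {X : Scheme.{u}} (T : Sieve X) : Prop :=
  ∀ (U : Over S) (g : U.left ⟶ X), (Sieve.overEquiv U).symm (T.pullback g) ∈ Sheaf.finestTopologySingle F U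

/-- The sieve condition for flat proper coverings. -/
def FlatCond : Prop :=
  ∀ (X Y : Over S) (f : X ⟶ Y), IsAffine Y.left → Surjective f.left → Flat f.left → IsProper f.left →
    LocallyOfFinitePresentation f.left → Presieve.IsSheafFor F (Presieve.singleton f)

/-- The condition on almost blow up squares with two-generated centre. -/
def SquareCond : Prop :=
  ∀ (E Z X' X : Over S) (e : E ⟶ X') (π : E ⟶ Z) (b : X' ⟶ X) (i : Z ⟶ X), IsAffine X.left →
    HTop.IsAlmostBlowUpSquare e.left π.left b.left i.left →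
    (∃ f₁ f₂ : Γ(X.left, ⊤), i.left.ker = Scheme.IdealSheafData.ofIdealTop (Ideal.span {f₁, f₂})) →
    ∀ (t : F.obj (op Z)) (s' : F.obj (op X')), F.map π.op t = F.map e.op s' →
      ∃! s : F.obj (op X), F.map i.op s = t ∧ F.map b.op s = s'

variable {F}

theorem K.mono {X : Scheme.{u}} {T T' : Sieve X} (h : K F T) (hle : T ≤ T') : K F T' := fun U g =>
  GrothendieckTopology.superset_covering _ (fun _ f hf => hle _ hf) (h U g)

theorem K.pullback {X Y : Scheme.{u}} {T : Sieve X} (h : K F T) (f : Y ⟶ X) : K F (T.pullback f) :=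
  fun U g => by
    rw [← Sieve.pullback_comp]
    exact h U (g ≫ f)

theorem K.top {X : Scheme.{u}} : K F (⊤ : Sieve X) := fun U g => by
  rw [Sieve.pullback_top]
  exact GrothendieckTopology.superset_covering _ (fun _ _ _ => trivial) (GrothendieckTopology.top_mem _ U)

theorem K.trans {X : Scheme.{u}} {T R : Sieve X} (h : K F T)
    (hR : ∀ ⦃Y : Scheme.{u}⦄ (f : Y ⟶ X), T f → K F (R.pullback f)) : K F R := fun U g => by
  refine GrothendieckTopology.transitive _ (h U g) _ fun Z k hk => ?_
  rw [← Sieve.overEquiv_symm_pullback, ← Sieve.pullback_comp]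
  have h2 := hR (k.left ≫ g) hk Z (𝟙 _)
  rwa [Sieve.pullback_id] at h2

variable (hZ : Presieve.IsSheaf (Scheme.zariskiTopology.over S) F)

include hZ in
theorem K.of_zariski {X : Scheme.{u}} {T : Sieve X} (h : T ∈ Scheme.zariskiTopology X) : K F T :=
  fun U g W k => hZ _ ((Scheme.zariskiTopology.over S).pullback_stable k (by
    rw [GrothendieckTopology.mem_over_iff, OrderIso.apply_symm_apply]
    exact Scheme.zariskiTopology.pullback_stable g h))

include hZ in
/-- It suffices to test on affine schemes. -/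
theorem K.of_affine {X : Scheme.{u}} (T : Sieve X)
    (h : ∀ (A : Over S) (g : A.left ⟶ X), IsAffine A.left →
      Presieve.IsSheafFor F ((Sieve.overEquiv A).symm (T.pullback g)).arrows) : K F T := fun U g W k => by
  refine GrothLib.HSheafCrit4.isSheafFor_of_affine hZ _ fun A e hA => ?_
  rw [← Sieve.pullback_comp, ← Sieve.overEquiv_symm_pullback, ← Sieve.pullback_comp]
  exact h A _ hA

include hZ in
theorem K.of_flat (hP : FlatCond F) {X Y : Scheme.{u}} (f : X ⟶ Y) [Surjective f] [Flat f] [IsProper f]
    [LocallyOfFinitePresentation f] : K F (Sieve.generate (Presieve.singleton f)) := by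
  refine K.of_affine hZ _ fun A g hA => ?_
  let Q : Over S := Over.mk (Limits.pullback.fst g f ≫ A.hom)
  let q : Q ⟶ A := Over.homMk (Limits.pullback.fst g f)
  have heq : (Sieve.overEquiv A).symm ((Sieve.generate (Presieve.singleton f)).pullback g) =
      Sieve.generate (Presieve.singleton q) := by
    refine Sieve.ext fun W h => ⟨?_, ?_⟩
    · intro hh
      rw [Sieve.overEquiv_symm_iff] at hh
      obtain ⟨_, l, _, ⟨⟩, hl⟩ := hh
      refine ⟨Q, Over.homMk (Limits.pullback.lift h.left l hl.symm) ?_, q, ⟨⟩,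
        Over.OverMorphism.ext (Limits.pullback.lift_fst _ _ _)⟩
      show Limits.pullback.lift _ _ _ ≫ Limits.pullback.fst _ _ ≫ A.hom = W.hom
      rw [Limits.pullback.lift_fst_assoc]
      exact Over.w h
    · rintro ⟨_, l, _, ⟨⟩, rfl⟩
      rw [Sieve.overEquiv_symm_iff]
      exact ⟨X, l.left ≫ Limits.pullback.snd g f, f, ⟨⟩, by simp [q, Q, Limits.pullback.condition]⟩
  rw [heq, ← Presieve.isSheafFor_iff_generate]
  exact hP Q A q hA (show Surjective (Limits.pullback.fst g f) from inferInstance)
    (show Flat (Limits.pullback.fst g f) from inferInstance)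
    (show IsProper (Limits.pullback.fst g f) from inferInstance)
    (show LocallyOfFinitePresentation (Limits.pullback.fst g f) from inferInstance)

theorem comap_ofIdealTop {X Y : Scheme.{u}} [IsAffine X] [IsAffine Y] (g : Y ⟶ X) (I : Ideal Γ(X, ⊤)) :
    (Scheme.IdealSheafData.ofIdealTop I).comap g = Scheme.IdealSheafData.ofIdealTop (I.map g.appTop.hom) := by
  refine Scheme.IdealSheafData.ext_of_isAffine ?_
  rw [GrothLib.BlowUp.ideal_comap_eq_map _ g ⟨⊤, isAffineOpen_top X⟩ ⟨⊤, isAffineOpen_top Y⟩ le_top]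
  simp [Scheme.IdealSheafData.ofIdealTop, Scheme.Hom.appLE, Scheme.Hom.appTop]

/-- Arrows factoring through one of two given arrows. -/
def pairSieve {X Z X' : Scheme.{u}} (i : Z ⟶ X) (b : X' ⟶ X) : Sieve X where
  arrows := fun W h => (∃ a : W ⟶ Z, a ≫ i = h) ∨ ∃ a : W ⟶ X', a ≫ b = h
  downward_closed := by
    rintro W W' h (⟨a, rfl⟩ | ⟨a, rfl⟩) k
    · exact Or.inl ⟨k ≫ a, Category.assoc _ _ _⟩
    · exact Or.inr ⟨k ≫ a, Category.assoc _ _ _⟩

include hZ in
/-- Almost blow up squares with two-generated centre over an affine scheme are covering. -/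
theorem K.of_square (hS : SquareCond F) {E Z X' X : Scheme.{u}} [IsAffine X] {e : E ⟶ X'} {π : E ⟶ Z}
    {b : X' ⟶ X} {i : Z ⟶ X} (h : HTop.IsAlmostBlowUpSquare e π b i) (f₁ f₂ : Γ(X, ⊤))
    (hker : i.ker = Scheme.IdealSheafData.ofIdealTop (Ideal.span {f₁, f₂})) : K F (pairSieve i b) := by
  refine K.of_affine hZ _ fun A g hA => ?_
  haveI := h.isClosedImmersion
  let gX := Limits.pullback.snd g b
  let b₁ := Limits.pullback.fst g b
  let i₁ := Limits.pullback.fst g i
  let gE := Limits.pullback.fst e gX
  let e₁ := Limits.pullback.snd e gX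
  let π₁ : Limits.pullback e gX ⟶ Limits.pullback g i := Limits.pullback.lift (e₁ ≫ b₁) (gE ≫ π) (by
    rw [Category.assoc, Category.assoc, Limits.pullback.condition, ← h.isPullback.w,
      ← Category.assoc, ← Category.assoc, Limits.pullback.condition])
  have h₁ : HTop.IsAlmostBlowUpSquare e₁ π₁ b₁ i₁ :=
    Groth.Agent.S8982.result h g (IsPullback.of_hasPullback g b).flip (IsPullback.of_hasPullback g i).flip
      (IsPullback.of_hasPullback e gX) (Limits.pullback.lift_fst _ _ _)
  let Zo : Over S := Over.mk (i₁ ≫ A.hom)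
  let Xo : Over S := Over.mk (b₁ ≫ A.hom)
  let Eo : Over S := Over.mk (e₁ ≫ b₁ ≫ A.hom)
  let qi : Zo ⟶ A := Over.homMk i₁
  let qb : Xo ⟶ A := Over.homMk b₁
  let qe : Eo ⟶ Xo := Over.homMk e₁
  let qπ : Eo ⟶ Zo := Over.homMk π₁ (by
    show π₁ ≫ i₁ ≫ A.hom = e₁ ≫ b₁ ≫ A.hom
    rw [← Category.assoc, Limits.pullback.lift_fst, Category.assoc])
  have hsq : qπ ≫ qi = qe ≫ qb := Over.OverMorphism.ext (Limits.pullback.lift_fst _ _ _)
  have h2 : ∃ a c : Γ(A.left, ⊤), i₁.ker = Scheme.IdealSheafData.ofIdealTop (Ideal.span {a, c}) := by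
    refine ⟨g.appTop.hom f₁, g.appTop.hom f₂, ?_⟩
    rw [Scheme.IdealSheafData.ker_fst_of_isClosedImmersion, hker, comap_ofIdealTop, Ideal.map_span,
      Set.image_pair]
  let R := (Sieve.overEquiv A).symm ((pairSieve i b).pullback g)
  have hi : R qi := by
    rw [Sieve.overEquiv_symm_iff]
    exact Or.inl ⟨Limits.pullback.snd g i, Limits.pullback.condition.symm⟩
  have hb : R qb := by
    rw [Sieve.overEquiv_symm_iff]
    exact Or.inr ⟨Limits.pullback.snd g b, Limits.pullback.condition.symm⟩
  intro x hx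
  obtain ⟨s, ⟨hsi, hsb⟩, hu⟩ := hS Eo Zo Xo A qe qπ qb qi hA h₁ h2 (x qi hi) (x qb hb) (hx qπ qe hi hb hsq)
  refine ⟨s, fun W k hk => ?_, fun y hy => hu y ⟨hy qi hi, hy qb hb⟩⟩
  have hk' := hk
  rw [Sieve.overEquiv_symm_iff] at hk'
  have key : ∀ {P : Over S} (q : P ⟶ A) (hq : R q) (l : W ⟶ P), l ≫ q = k → F.map q.op s = x q hq →
      F.map k.op s = x k hk := by
    intro P q hq l hl hs
    have := hx (𝟙 W) l hk hq (by rw [Category.id_comp, hl])
    subst hl
    rw [op_id, F.map_id] at this
    rw [op_comp, F.map_comp, comp_apply, hs]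
    exact this.symm.trans (by simp)
  rcases hk' with ⟨a, ha⟩ | ⟨a, ha⟩
  · exact key qi hi (Over.homMk (Limits.pullback.lift k.left a ha.symm) (by
      show Limits.pullback.lift _ _ _ ≫ i₁ ≫ A.hom = W.hom
      rw [Limits.pullback.lift_fst_assoc]
      exact Over.w k)) (Over.OverMorphism.ext (Limits.pullback.lift_fst _ _ _)) hsi
  · exact key qb hb (Over.homMk (Limits.pullback.lift k.left a ha.symm) (by
      show Limits.pullback.lift _ _ _ ≫ b₁ ≫ A.hom = W.hom
      rw [Limits.pullback.lift_fst_assoc]
      exact Over.w k)) (Over.OverMorphism.ext (Limits.pullback.lift_fst _ _ _)) hsb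

theorem comap_eq_bot_iff {X W : Scheme.{u}} (g : W ⟶ X) (J : X.IdealSheafData) :
    J.comap g = ⊥ ↔ J ≤ g.ker := by
  rw [← le_bot_iff, ← Scheme.IdealSheafData.le_map_iff_comap_le, Scheme.IdealSheafData.map,
    Scheme.Hom.ker_comp_of_isIso]

theorem comap_subschemeι_eq_bot {X : Scheme.{u}} (J : X.IdealSheafData) : J.comap J.subschemeι = ⊥ := by
  rw [comap_eq_bot_iff, Scheme.IdealSheafData.ker_subschemeι]

/-- On a Noetherian scheme every centre gives an almost blow up square. -/
theorem exists_square {X : Scheme.{u}} [IsNoetherian X] (J : X.IdealSheafData) :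
    ∃ (X' : Scheme.{u}) (b : X' ⟶ X) (_ : IsProper b), BlowUp.IsBlowUp b J ∧
      HTop.IsAlmostBlowUpSquare (Limits.pullback.fst b J.subschemeι) (Limits.pullback.snd b J.subschemeι) b
        J.subschemeι := by
  obtain ⟨X', b, hb⟩ := GrothLib.BlowUp.exists_isBlowUp X J
  haveI : IsProper b := GrothLib.BlowUpProper.isProper_of_isBlowUp hb
  have hlp : HTop.IsLocPrincipal (J.subschemeι.ker.comap b) := by
    rw [J.ker_subschemeι]
    intro x
    obtain ⟨U, hx, f, -, hf⟩ := hb.1 x
    exact ⟨U, hx, f, hf⟩
  refine ⟨X', b, inferInstance, hb, inferInstance, inferInstance, IsPullback.of_hasPullback _ _, hlp,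
    inferInstance, inferInstance,
    (GrothLib.ABU25.isBlowUp_iff_isUniv _ _ hlp).2 fun T t ht => hb.2 T t ?_⟩
  rwa [J.ker_subschemeι] at ht

/-- The sieve contains the arrows killing `J` and those making it invertible. -/
def Absorbs {X : Scheme.{u}} (J : X.IdealSheafData) (T : Sieve X) : Prop :=
  (∀ (W : Scheme.{u}) (g : W ⟶ X), J.comap g = ⊥ → T g) ∧
    ∀ (W : Scheme.{u}) (g : W ⟶ X), BlowUp.IsEffCartierIdeal (J.comap g) → T g

theorem Absorbs.pullback {X Y : Scheme.{u}} {J : X.IdealSheafData} {T : Sieve X} (h : Absorbs J T)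
    (f : Y ⟶ X) : Absorbs (J.comap f) (T.pullback f) :=
  ⟨fun W g hg => h.1 W _ (by rw [Scheme.IdealSheafData.comap_comp]; exact hg),
    fun W g hg => h.2 W _ (by rw [Scheme.IdealSheafData.comap_comp]; exact hg)⟩

theorem ofIdealTop_ideal {X : Scheme.{u}} [IsAffine X] (J : X.IdealSheafData) :
    Scheme.IdealSheafData.ofIdealTop (J.ideal ⟨⊤, isAffineOpen_top X⟩) = J :=
  Scheme.IdealSheafData.ext_of_isAffine (by simp [Scheme.IdealSheafData.ofIdealTop])

theorem ofIdealTop_sup {X : Scheme.{u}} [IsAffine X] (I J : Ideal Γ(X, ⊤)) :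
    Scheme.IdealSheafData.ofIdealTop (I ⊔ J) =
      Scheme.IdealSheafData.ofIdealTop I ⊔ Scheme.IdealSheafData.ofIdealTop J := by
  refine Scheme.IdealSheafData.ext_of_isAffine ?_
  simp [Scheme.IdealSheafData.ofIdealTop]

include hZ in
theorem K.of_absorbs_list (hS : SquareCond F) (n : ℕ) :
    ∀ {X : Scheme.{u}} [IsNoetherian X] [IsAffine X] (l : List Γ(X, ⊤)), l.length ≤ n → ∀ (T : Sieve X),
      Absorbs (Scheme.IdealSheafData.ofIdealTop (Ideal.span {x | x ∈ l})) T → K F T := by
  induction n with
  | zero =>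
    intro X _ _ l hl T hT
    obtain rfl : l = [] := List.length_eq_zero_iff.1 (Nat.le_zero.1 hl)
    have h0 : Scheme.IdealSheafData.ofIdealTop (Ideal.span {x | x ∈ ([] : List Γ(X, ⊤))}) = ⊥ :=
      Scheme.IdealSheafData.ext_of_isAffine (by simp [Scheme.IdealSheafData.ofIdealTop])
    rw [h0] at hT
    have h1 := hT.1 X (𝟙 X) (Scheme.IdealSheafData.comap_bot _)
    exact K.top.mono fun W g _ => by simpa using T.downward_closed h1 g
  | succ n ih =>
    intro X _ _ l hl T hT
    match l, hl, hT with
    | [], _, hT => exact ih [] (Nat.zero_le _) T hT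
    | [a], _, hT =>
      have hJ : Ideal.span {x | x ∈ [a]} = Ideal.span {a, a} := by simp
      rw [hJ] at hT
      obtain ⟨X', b, _, hb, hsq⟩ := exists_square (Scheme.IdealSheafData.ofIdealTop (Ideal.span {a, a}))
      refine (K.of_square hZ hS hsq a a (Scheme.IdealSheafData.ker_subschemeι _)).mono ?_
      rintro W g (⟨p, rfl⟩ | ⟨p, rfl⟩)
      · exact T.downward_closed (hT.1 _ _ (comap_subschemeι_eq_bot _)) p
      · exact T.downward_closed (hT.2 _ _ hb.1) p
    | a :: c :: rest, hl, hT =>
      set J₂ := Scheme.IdealSheafData.ofIdealTop (Ideal.span {a, c}) with hJ₂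
      have hJ : Scheme.IdealSheafData.ofIdealTop (Ideal.span {x | x ∈ a :: c :: rest}) =
          J₂ ⊔ Scheme.IdealSheafData.ofIdealTop (Ideal.span {x | x ∈ rest}) := by
        rw [hJ₂, ← ofIdealTop_sup, ← Ideal.span_union]
        congr 2
        ext x
        simp [or_assoc]
      rw [hJ] at hT
      obtain ⟨X', b, _, hb, hsq⟩ := exists_square J₂
      refine (K.of_square hZ hS hsq a c (Scheme.IdealSheafData.ker_subschemeι _)).trans ?_
      rintro W g (⟨p, rfl⟩ | ⟨p, rfl⟩) <;> rw [Sieve.pullback_comp] <;> refine K.pullback ?_ p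
      · haveI : IsAffine J₂.subscheme := isAffine_of_isAffineHom J₂.subschemeι
        haveI : IsLocallyNoetherian J₂.subscheme := LocallyOfFiniteType.isLocallyNoetherian J₂.subschemeι
        haveI : IsNoetherian J₂.subscheme := {}
        refine ih (rest.map J₂.subschemeι.appTop.hom) ?_ _ ?_
        · simp only [List.length_map, List.length_cons] at hl ⊢
          omega
        · have h := hT.pullback J₂.subschemeι
          rw [Scheme.IdealSheafData.comap_sup, comap_subschemeι_eq_bot, bot_sup_eq, comap_ofIdealTop,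
            Ideal.map_span] at h
          convert h using 4
          ext x
          simp
      · haveI : IsLocallyNoetherian X' := LocallyOfFiniteType.isLocallyNoetherian b
        have key : ∀ x : X', ∃ V : X'.affineOpens, x ∈ V.1 ∧ ∃ v, (J₂.comap b).ideal V = Ideal.span {v} := by
          intro x
          obtain ⟨V, hx, v, -, hv⟩ := hb.1 x
          exact ⟨V, hx, v, hv⟩
        choose V hxV v hv using key
        let 𝒰 := X'.openCoverOfIsOpenCover (fun x => (V x).1)
          (top_le_iff.1 fun x _ => TopologicalSpace.Opens.mem_iSup.2 ⟨x, hxV x⟩)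
        refine (K.of_zariski hZ 𝒰.mem_grothendieckTopology).trans ?_
        rintro W' g' ⟨_, p', _, ⟨x⟩, rfl⟩
        rw [Sieve.pullback_comp]
        refine K.pullback ?_ p'
        suffices H : ∀ x : X', K F ((T.pullback b).pullback (V x).1.ι) from H x
        intro x
        let ι : ((V x).1 : Scheme.{u}) ⟶ X' := (V x).1.ι
        show K F ((T.pullback b).pullback ι)
        rw [← Sieve.pullback_comp]
        haveI : IsAffine ((V x).1 : Scheme.{u}) := (V x).2
        haveI : IsLocallyNoetherian ((V x).1 : Scheme.{u}) := isLocallyNoetherian_of_isOpenImmersion ι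
        haveI : IsNoetherian ((V x).1 : Scheme.{u}) := {}
        let w := ι.appLE (V x).1 ⊤ (fun z _ => z.2)
        refine ih (w.hom (v x) :: rest.map (ι ≫ b).appTop.hom) ?_ _ ?_
        · simp only [List.length_map, List.length_cons] at hl ⊢
          omega
        · have h := hT.pullback (ι ≫ b)
          have h2 : J₂.comap (ι ≫ b) = Scheme.IdealSheafData.ofIdealTop (Ideal.span {w.hom (v x)}) := by
            refine Scheme.IdealSheafData.ext_of_isAffine ?_
            rw [Scheme.IdealSheafData.comap_comp,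
              GrothLib.BlowUp.ideal_comap_eq_map _ ι (V x) ⟨⊤, isAffineOpen_top _⟩ (fun z _ => z.2), hv x,
              Ideal.map_span, Set.image_singleton]
            simp [Scheme.IdealSheafData.ofIdealTop, w]
            exact (Ideal.map_id _).symm
          rw [Scheme.IdealSheafData.comap_sup, h2, comap_ofIdealTop (ι ≫ b), ← ofIdealTop_sup,
            Ideal.map_span, ← Ideal.span_union] at h
          convert h using 4
          ext y
          simp

include hZ in
/-- A sieve absorbing any centre on a Noetherian scheme is covering. -/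
theorem K.of_absorbs (hS : SquareCond F) {X : Scheme.{u}} [IsNoetherian X] (J : X.IdealSheafData)
    (T : Sieve X) (hT : Absorbs J T) : K F T := by
  refine (K.of_zariski hZ X.affineCover.mem_grothendieckTopology).trans ?_
  rintro W g ⟨_, p, _, ⟨k⟩, rfl⟩
  rw [Sieve.pullback_comp]
  refine K.pullback ?_ p
  haveI : IsLocallyNoetherian (X.affineCover.X k) := isLocallyNoetherian_of_isOpenImmersion (X.affineCover.f k)
  haveI : IsAffine (X.affineCover.X k) := inferInstance
  haveI : IsNoetherian (X.affineCover.X k) := {}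
  let A := X.affineCover.X k
  haveI : IsNoetherianRing Γ(A, ⊤) := IsLocallyNoetherian.component_noetherian ⟨⊤, isAffineOpen_top A⟩
  obtain ⟨s, hs⟩ : ((J.comap (X.affineCover.f k)).ideal ⟨⊤, isAffineOpen_top A⟩).FG := IsNoetherian.noetherian _
  refine K.of_absorbs_list hZ hS _ s.toList le_rfl _ ?_
  have h := hT.pullback (X.affineCover.f k)
  rw [← ofIdealTop_ideal (J.comap (X.affineCover.f k)), ← hs] at h
  simpa using h

end GrothLib.HSquare4
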