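import Groth.Agent.Lib.HSquare4.Basic
import Groth.Agent.Lib.SubtrOpen4.Basic
import Groth.Agent.Lib.RedSub.Basic
import Groth.Agent.Lib.LimDesc.Proper
import Groth.Agent.S14793

/-!
# The criterion for h sheaves by flat proper coverings and almost blow up squares
-/

set_option autoImplicit false
set_option backward.isDefEq.respectTransparency false
universe w u

open CategoryTheory CategoryTheory.Limits AlgebraicGeometry Opposite TopologicalSpace

noncomputable section

namespace GrothLib.HSquare4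

variable {S : Scheme.{u}} {F : (Over S)ᵒᵖ ⥤ Type w}

theorem generate_singleton_le_pullback {P Y P' Y' : Scheme.{u}} (f : P ⟶ Y) (f' : P' ⟶ Y') (g : Y' ⟶ Y)
    (a : P' ⟶ P) (h : a ≫ f = f' ≫ g) :
    Sieve.generate (Presieve.singleton f') ≤ (Sieve.generate (Presieve.singleton f)).pullback g := by
  rintro W _ ⟨_, l, _, ⟨⟩, rfl⟩
  exact ⟨P, l ≫ a, f, ⟨⟩, by rw [Category.assoc, h, Category.assoc]⟩

theorem univSSubtrusive_of_universallyClosed {X Y : Scheme.{u}} (f : X ⟶ Y) [UniversallyClosed f]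
    [Surjective f] : Subtr.UnivSSubtrusive f := by
  intro X' Y' i₁ i₂ f' h
  haveI : UniversallyClosed f' := MorphismProperty.of_isPullback h.flip inferInstance
  haveI : Surjective f' := MorphismProperty.of_isPullback h.flip inferInstance
  intro y y' hy
  obtain ⟨x', hx'⟩ := f'.surjective y'
  have hcl : IsClosed (f' '' closure {x'}) := f'.isClosedMap _ isClosed_closure
  obtain ⟨x, hx, hxy⟩ := hy.mem_closed hcl ⟨x', subset_closure rfl, hx'⟩
  exact ⟨x, x', specializes_iff_mem_closure.2 hx, hxy, hx'⟩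

variable (hZ : Presieve.IsSheaf (Scheme.zariskiTopology.over S) F)

include hZ in
theorem K.of_proper_noetherian (hP : FlatCond F) (hS : SquareCond F) {P₀ Y₀ : Scheme.{u}} [IsNoetherian Y₀]
    (f₀ : P₀ ⟶ Y₀) [IsProper f₀] [Surjective f₀] :
    ∀ (C : Closeds Y₀) (Y : Scheme.{u}) (j : Y ⟶ Y₀) [IsClosedImmersion j], Set.range j = (C : Set Y₀) →
      K F (Sieve.generate (Presieve.singleton (pullback.snd f₀ j))) := by
  intro C
  induction C using WellFoundedLT.induction with
  | _ C IH =>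
  intro Y j _ hj
  haveI : IsLocallyNoetherian Y := LocallyOfFiniteType.isLocallyNoetherian j
  haveI : CompactSpace Y := QuasiCompact.compactSpace_of_compactSpace j
  haveI : IsNoetherian Y := {}
  let V := (Scheme.IdealSheafData.vanishingIdeal (⊤ : Closeds Y))
  let ι := V.subschemeι
  haveI : IsReduced V.subscheme := GrothLib.RedSub.isReduced_subscheme_vanishingIdeal _
  have hrange : Set.range ι = Set.univ := by
    simp [ι, Scheme.IdealSheafData.range_subschemeι, V]
  haveI : Surjective ι := ⟨fun y => Set.eq_univ_iff_forall.1 hrange y⟩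
  haveI : IsLocallyNoetherian V.subscheme := LocallyOfFiniteType.isLocallyNoetherian ι
  haveI : CompactSpace V.subscheme := QuasiCompact.compactSpace_of_compactSpace ι
  haveI : IsNoetherian V.subscheme := {}
  -- reduce to the reduced scheme
  have hT : K F (Sieve.generate (Presieve.singleton ι)) := by
    refine K.of_absorbs hZ hS ι.ker _ ⟨fun W g hg => ?_, fun W g hg => ?_⟩
    · exact ⟨_, IsClosedImmersion.lift ι g ((comap_eq_bot_iff g _).1 hg), ι, ⟨⟩,
        IsClosedImmersion.lift_fac _ _ _⟩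
    · haveI : IsEmpty W := ⟨fun w => by
        obtain ⟨z, hz⟩ := QuasiSober.sober (isIrreducible_irreducibleComponent (x := w)) isClosed_irreducibleComponent
        have hmax : ∀ y, y ⤳ z → y = z := fun y hy => by
          have hC := irreducibleComponent_mem_irreducibleComponents w
          have h1 : irreducibleComponent w ⊆ closure {y} := by rw [← hz.def]; exact hy.closure_subset
          exact (hy.antisymm (hz.specializes (hC.2 isIrreducible_singleton.closure h1 (subset_closure rfl)))).eq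
        refine GrothLib.BlowUp.notMem_support_of_maximal hg hmax ?_
        rw [← SetLike.mem_coe, Scheme.IdealSheafData.support_comap, Closeds.coe_preimage, Set.mem_preimage,
          Scheme.Hom.support_ker]
        exact subset_closure (Set.eq_univ_iff_forall.1 hrange (g z))⟩
      exact ⟨_, isInitialOfIsEmpty.to _, ι, ⟨⟩, isInitialOfIsEmpty.hom_ext _ _⟩
  refine hT.trans ?_
  rintro W _ ⟨_, p, _, ⟨⟩, rfl⟩
  rw [Sieve.pullback_comp]
  refine K.pullback ?_ p
  let f₂ := pullback.snd f₀ (ι ≫ j)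
  refine K.mono ?_ (generate_singleton_le_pullback (pullback.snd f₀ j) f₂ ι
    (pullback.lift (pullback.fst f₀ (ι ≫ j)) (f₂ ≫ ι) (by rw [Category.assoc, pullback.condition]))
    (pullback.lift_snd _ _ _))
  by_cases hne : Nonempty V.subscheme
  swap
  · haveI : IsEmpty V.subscheme := not_nonempty_iff.1 hne
    exact K.top.mono fun W g _ =>
      ⟨_, g ≫ isInitialOfIsEmpty.to _, f₂, ⟨⟩, by
        rw [Category.assoc, isInitialOfIsEmpty.hom_ext (isInitialOfIsEmpty.to _ ≫ f₂) (𝟙 _), Category.comp_id]⟩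
  obtain ⟨U, J, R', b, hUd, -, hb, hJ, -, key⟩ :=
    Groth.Agent.S14793.result (NoetherianSpace.isCompact _) f₂ (univSSubtrusive_of_universallyClosed f₂)
  have hT2 : K F (pairSieve J.subschemeι b) := by
    refine K.of_absorbs hZ hS J _ ⟨fun W g hg => Or.inl ?_, fun W g hg => Or.inr ?_⟩
    · exact ⟨IsClosedImmersion.lift J.subschemeι g
        (by rw [Scheme.IdealSheafData.ker_subschemeι]; exact (comap_eq_bot_iff g _).1 hg),
        IsClosedImmersion.lift_fac _ _ _⟩
    · obtain ⟨h, hh, -⟩ := hb.2 W g hg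
      exact ⟨h, hh⟩
  refine hT2.trans ?_
  rintro W' _ (⟨p', rfl⟩ | ⟨p', rfl⟩) <;> rw [Sieve.pullback_comp] <;> refine K.pullback ?_ p'
  · let j' := J.subschemeι ≫ ι ≫ j
    let C' : Closeds Y₀ := ⟨Set.range j', j'.isClosedEmbedding.isClosed_range⟩
    have hlt : C' < C := by
      refine lt_of_le_of_ne (fun x hx => ?_) fun heq => ?_
      · obtain ⟨z, rfl⟩ := hx
        exact hj.le ⟨(J.subschemeι ≫ ι) z, rfl⟩
      · obtain ⟨u, hu⟩ := hUd.nonempty
        have h1 : j (ι u) ∈ (C' : Set Y₀) := by rw [heq]; exact hj.le ⟨_, rfl⟩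
        obtain ⟨z, hz⟩ := h1
        have h2 : J.subschemeι z = u := ι.isClosedEmbedding.injective (j.isClosedEmbedding.injective hz)
        refine Set.disjoint_left.1 hJ.2 ?_ hu
        rw [← h2, ← Scheme.IdealSheafData.range_subschemeι]
        exact Set.mem_range_self z
    refine K.mono (IH C' hlt _ j' rfl) (generate_singleton_le_pullback f₂ (pullback.snd f₀ j') J.subschemeι
      (pullback.lift (pullback.fst f₀ j') (pullback.snd f₀ j' ≫ J.subschemeι) (by
        rw [Category.assoc, pullback.condition])) (pullback.lift_snd _ _ _))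
  · haveI : IsProper b := GrothLib.BlowUpProper.isProper_of_isBlowUp hb
    haveI : IsLocallyNoetherian R' := LocallyOfFiniteType.isLocallyNoetherian b
    haveI : CompactSpace R' := QuasiCompact.compactSpace_of_compactSpace b
    haveI : IsNoetherian R' := {}
    haveI : IsLocallyNoetherian (Limits.pullback f₂ b) := LocallyOfFiniteType.isLocallyNoetherian (pullback.snd f₂ b)
    haveI : CompactSpace (Limits.pullback f₂ b : Scheme.{u}) := QuasiCompact.compactSpace_of_compactSpace (pullback.snd f₂ b)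
    haveI : IsNoetherian (Limits.pullback f₂ b) := {}
    obtain ⟨𝒥, h𝒥, -⟩ := GrothLib.SubtrOpen4.exists_strict_ideal ((J.comap f₂).comap (pullback.fst f₂ b))
    obtain ⟨hfl, hsu, hfp, -, -⟩ := key _ _ _ (IsPullback.of_hasPullback f₂ b) 𝒥 h𝒥
    haveI : IsProper (𝒥.subschemeι ≫ pullback.snd f₂ b) := inferInstance
    refine (K.of_flat hZ hP (𝒥.subschemeι ≫ pullback.snd f₂ b)).mono
      (generate_singleton_le_pullback f₂ _ b (𝒥.subschemeι ≫ pullback.fst f₂ b) ?_)
    rw [Category.assoc, pullback.condition, Category.assoc]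

/-- A proper surjective finitely presented morphism to an affine scheme comes from a Noetherian base. -/
theorem exists_model_proper_surjective {X Y : Scheme.{u}} (f : X ⟶ Y) [IsAffine Y] [IsProper f] [Surjective f]
    [LocallyOfFinitePresentation f] :
    ∃ (X₀ Y₀ : Scheme.{u}) (f₀ : X₀ ⟶ Y₀) (a : X ⟶ X₀) (m : Y ⟶ Y₀), IsPullback a f f₀ m ∧
      IsNoetherian Y₀ ∧ IsProper f₀ ∧ Surjective f₀ := by
  let f' := f ≫ Y.isoSpec.hom
  obtain ⟨A₀, hA₀, X₀, f₀, a, sq, _, _, _, hu⟩ :=
    (Groth.Agent.S14792.result Γ(Y, ⊤) f').mp (univSSubtrusive_of_universallyClosed f')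
  let D := GrothLib.LimDescend.fgDiagram Γ(Y, ⊤)
  let c := GrothLib.LimDescend.fgCone Γ(Y, ⊤)
  let i₀ : (GrothLib.LimDescend.FgSub Γ(Y, ⊤))ᵒᵖ := op ⟨A₀, hA₀⟩
  let f₁ : X₀ ⟶ D.obj i₀ := f₀
  haveI : LocallyOfFinitePresentation f₁ := inferInstanceAs (LocallyOfFinitePresentation f₀)
  haveI : QuasiCompact f₁ := inferInstanceAs (QuasiCompact f₀)
  haveI : QuasiSeparated f₁ := inferInstanceAs (QuasiSeparated f₀)
  haveI : CompactSpace X₀ := QuasiCompact.compactSpace_of_compactSpace f₀
  haveI : QuasiSeparatedSpace X₀ := quasiSeparatedSpace_of_quasiSeparated f₀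
  haveI : Surjective f₁ := ⟨fun y => by
    obtain ⟨x, -, -, hx, -⟩ := (GrothLib.SubtrRefine4.univSSubtrusive_of_univSubmersive A₀ hA₀ f₀ hu)
      _ _ _ IsPullback.of_id_snd (y := y) (y' := y) specializes_rfl
    exact ⟨x, hx⟩⟩
  have hY : IsPullback (c.π.app i₀) (𝟙 c.pt) (𝟙 (D.obj i₀)) (c.π.app i₀) := IsPullback.of_id_fst.flip
  obtain ⟨j, hj⟩ := GrothLib.LimDesc.exists_isProper D (GrothLib.LimDescend.isLimitFgCone Γ(Y, ⊤)) f₁
    (𝟙 (D.obj i₀)) hY sq
  let gk := pullback.snd (𝟙 (D.obj i₀)) (D.map j.hom)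
  haveI : IsIso gk := inferInstance
  let fk := (GrothLib.LimDesc.mapNat D i₀ (𝟙 (D.obj i₀)) (f₁ ≫ 𝟙 _) f₁ rfl).app j
  have hfk := GrothLib.LimDesc.isPullback_mapNat D i₀ (𝟙 (D.obj i₀)) (f₁ ≫ 𝟙 _) f₁ rfl j
  let fs := fk ≫ gk
  have hsq : IsPullback (pullback.fst (f₁ ≫ 𝟙 _) (D.map j.hom)) fs f₁ (D.map j.hom) := by
    have h := hfk.paste_vert (IsPullback.of_hasPullback (𝟙 (D.obj i₀)) (D.map j.hom))
    exact h.of_iso (Iso.refl _) (Iso.refl _) (Iso.refl _) (Iso.refl _) (by simp) (by simp [fs, fk, gk]) (by simp) (by simp)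
  have hsq' : IsPullback (hsq.lift a (f' ≫ c.π.app j.left)
      (by rw [Category.assoc, Cone.w]; exact sq.w)) f' fs (c.π.app j.left) := by
    refine IsPullback.of_right ?_ (hsq.lift_snd _ _ _) hsq
    rw [hsq.lift_fst, Cone.w]
    exact sq
  haveI : IsNoetherianRing j.left.unop.1 :=
    haveI : Algebra.FiniteType ℤ j.left.unop.1 := (Subalgebra.fg_iff_finiteType _).mp j.left.unop.2
    Algebra.FiniteType.isNoetherianRing ℤ _
  haveI : IsNoetherian (D.obj j.left) :=
    inferInstanceAs (IsNoetherian (Spec (CommRingCat.of j.left.unop.1)))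
  haveI : IsProper fs := (MorphismProperty.cancel_right_of_respectsIso @IsProper fk gk).mpr hj
  haveI : Surjective fs := MorphismProperty.of_isPullback hsq inferInstance
  exact ⟨_, _, fs, _, Y.isoSpec.hom ≫ c.π.app j.left,
    by
      have h := (IsPullback.of_horiz_isIso (fst := 𝟙 X) (snd := f) (f := f') (g := Y.isoSpec.hom)
        ⟨by simp [f']⟩).paste_horiz hsq'
      rwa [Category.id_comp] at h,
    inferInstance, inferInstance, inferInstance⟩

include hZ in
theorem K.of_proper (hP : FlatCond F) (hS : SquareCond F) {X Y : Scheme.{u}} (f : X ⟶ Y) [IsAffine Y]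
    [IsProper f] [Surjective f] [LocallyOfFinitePresentation f] :
    K F (Sieve.generate (Presieve.singleton f)) := by
  obtain ⟨X₀, Y₀, f₀, a, m, sq, _, _, _⟩ := exists_model_proper_surjective f
  have h0 := K.of_proper_noetherian hZ hP hS f₀ ⊤ Y₀ (𝟙 Y₀) (by simp)
  refine (h0.pullback m).mono ?_
  rintro W g ⟨_, l, _, ⟨⟩, hl⟩
  refine ⟨X, sq.lift (l ≫ pullback.fst f₀ (𝟙 Y₀)) g ?_, f, ⟨⟩, sq.lift_snd _ _ _⟩
  rw [Category.assoc, pullback.condition, Category.comp_id]
  exact hl

include hZ in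
/-- The criterion. -/
theorem isSheaf_Jh (hP : FlatCond F) (hS : SquareCond F) : Presieve.IsSheaf (HTop.Jh S) F := by
  refine GrothLib.HSheafCrit4.isSheaf_Jh hZ fun U V f hU hp hs hfp => ?_
  have h := K.of_proper hZ hP hS f.left U (𝟙 U.left) U (𝟙 U)
  rw [Sieve.pullback_id, Sieve.pullback_id] at h
  rw [Presieve.isSheafFor_iff_generate]
  convert h using 2
  refine Sieve.ext fun W g => ?_
  rw [Sieve.overEquiv_symm_iff]
  constructor
  · rintro ⟨_, l, _, ⟨⟩, rfl⟩
    exact ⟨V.left, l.left, f.left, ⟨⟩, rfl⟩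
  · rintro ⟨_, l, _, ⟨⟩, hl⟩
    exact ⟨V, Over.homMk l (by rw [← Over.w f, reassoc_of% hl, Over.w g]), f, ⟨⟩, Over.OverMorphism.ext hl⟩

/-- An h sheaf satisfies the flat and square conditions. -/
theorem conditions_of_isSheaf (h : Presieve.IsSheaf (HTop.Jh S) F) :
    (Presieve.IsSheaf (Scheme.zariskiTopology.over S) F ∧ FlatCond F) ∧
      ∀ (E Z X' X : Over S) (e : E ⟶ X') (π : E ⟶ Z) (b : X' ⟶ X) (i : Z ⟶ X),
        HTop.IsAlmostBlowUpSquare e.left π.left b.left i.left →
        ∀ (t : F.obj (op Z)) (s' : F.obj (op X')), F.map π.op t = F.map e.op s' →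
          ∃! s : F.obj (op X), F.map i.op s = t ∧ F.map b.op s = s' := by
  obtain ⟨h1, h2⟩ := GrothLib.HSheafCrit4.isSheaf_Jh_iff.1 h
  refine ⟨⟨h1, fun X Y f hY hs _ hp hfp => h2 Y X f hY hp hs hfp⟩, fun E Z X' X e π b i hsq t s' hts => ?_⟩
  have := hsq.isClosedImmersion
  have := hsq.finitePresentation_base
  have := hsq.isProper
  have := hsq.finitePresentation
  refine GrothLib.ABU25.hSections_cartesian ⟨F, (isSheaf_iff_isSheaf_of_type _ _).2 h⟩ e π b i hsq.isPullback
    i.left.ker.support.compl ?_ (GrothLib.ABU25.isIso_off_center hsq) t s' hts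
  rw [Closeds.coe_compl, Scheme.Hom.support_ker, i.left.isClosedEmbedding.isClosed_range.closure_eq]

end GrothLib.HSquare4
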